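import Mathlib.LinearAlgebra.Dual.Lemmas
import Mathlib.Algebra.Module.Torsion.Free
import Mathlib.Algebra.Exact.Basic
import Mathlib.RingTheory.Flat.Basic
import Mathlib.RingTheory.Flat.TorsionFree
import Mathlib.RingTheory.Flat.Stability
import Mathlib.RingTheory.Localization.FractionRing
import Mathlib.LinearAlgebra.FreeModule.PID
import Mathlib.LinearAlgebra.Dimension.Localization
import Mathlib.LinearAlgebra.Dimension.Torsion.Finite
import Mathlib.RingTheory.Noetherian.Basic
import Mathlib.RingTheory.Localization.BaseChange

/-!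
# Torsion free and reflexive modules over a domain

* `exists_quasi_inverse`: a finite module `M` over a domain has `f : M → Rⁿ`, `g : Rⁿ → M` and
  `c ≠ 0` with `g f = c` and `f g = c`.
* `isTorsionFree_iff_exists_injective`, `eval_injective_iff`, `eval_ker_coker_torsion`.
* `isReflexive_of_exact`: in `0 → M → M' → M''` with `M'` reflexive and `M''` torsion free, the
  finite module `M` is reflexive.
* `isTorsionFree_baseChange`: flat base change of torsion free modules.
-/

set_option autoImplicit false
universe u v v' w

namespace K63.TorsionFree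

open Module

open scoped TensorProduct

variable {R : Type u} [CommRing R] [IsDomain R]

lemma smul_eq_zero_of {M : Type v} [AddCommGroup M] [Module R M] [Module.IsTorsionFree R M]
    {c : R} (hc : c ≠ 0) {x : M} (h : c • x = 0) : x = 0 :=
  (smul_eq_zero_iff_right hc).mp h

/-- Criterion for torsion-freeness over a domain. -/
lemma isTorsionFree_of {M : Type v} [AddCommGroup M] [Module R M]
    (h : ∀ (c : R) (x : M), c ≠ 0 → c • x = 0 → x = 0) : Module.IsTorsionFree R M := by
  constructor
  intro r hr x y hxy
  have hr0 : r ≠ 0 := hr.ne_zero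
  have : r • (x - y) = 0 := by rw [smul_sub, sub_eq_zero]; exact hxy
  exact sub_eq_zero.mp (h r _ hr0 this)

/-- A finite module over a domain is, up to a nonzero scalar, free. -/
theorem exists_quasi_inverse (M : Type v) [AddCommGroup M] [Module R M] [Module.Finite R M] :
    ∃ (n : ℕ) (f : M →ₗ[R] (Fin n → R)) (g : (Fin n → R) →ₗ[R] M) (c : R), c ≠ 0 ∧
      (∀ x, g (f x) = c • x) ∧ ∀ y, f (g y) = c • y := by
  classical
  obtain ⟨B, hBcard, hB⟩ := exists_set_linearIndependent_of_isDomain R M
  set G : Submodule R M := Submodule.span R B with hG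
  have hrankG : Module.rank R G = Module.rank R M := by
    rw [← hBcard, hG]
    exact rank_span_set hB
  have hBfin : B.Finite := by
    have h1 : Cardinal.mk B < Cardinal.aleph0 := by
      rw [hBcard]; exact Module.rank_lt_aleph0 R M
    exact Cardinal.lt_aleph0_iff_set_finite.mp h1
  have hfin : Module.finrank R (M ⧸ G) = 0 := by
    have h := rank_quotient_add_rank_of_isDomain (R := R) (M := M) G
    have h1 : Module.finrank R (M ⧸ G) + Module.finrank R G = Module.finrank R M := by
      have hS : Module.rank R M < Cardinal.aleph0 := Module.rank_lt_aleph0 R M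
      have hG' : Module.rank R G < Cardinal.aleph0 := hrankG ▸ hS
      have hQ : Module.rank R (M ⧸ G) < Cardinal.aleph0 := Module.rank_lt_aleph0 R (M ⧸ G)
      unfold Module.finrank
      rw [← Cardinal.toNat_add hQ hG', h]
    have h2 : Module.finrank R G = Module.finrank R M := by
      unfold Module.finrank; rw [hrankG]
    omega
  have htors : Module.IsTorsion R (M ⧸ G) := (Module.finrank_eq_zero_iff_isTorsion).1 hfin
  obtain ⟨c, hc1, hc2⟩ := Submodule.annihilator_top_inter_nonZeroDivisors htors
  have hc0 : c ≠ 0 := nonZeroDivisors.ne_zero hc2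
  have hc : ∀ s : M, c • s ∈ G := by
    intro s
    have := (Submodule.mem_annihilator.1 hc1) (Submodule.Quotient.mk s) trivial
    rwa [← Submodule.Quotient.mk_smul, Submodule.Quotient.mk_eq_zero] at this
  have : Fintype B := hBfin.fintype
  have hBr : Submodule.span R (Set.range (Subtype.val : B → M)) = G := by
    rw [Subtype.range_coe]
  let b : Basis B R G := (Basis.span hB).map (LinearEquiv.ofEq _ _ hBr)
  let e : G ≃ₗ[R] (Fin (Fintype.card B) → R) := (b.reindex (Fintype.equivFin B)).equivFun
  refine ⟨Fintype.card B, e.toLinearMap ∘ₗ (LinearMap.codRestrict G (c • LinearMap.id) (fun x => ?_)),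
    G.subtype ∘ₗ e.symm.toLinearMap, c, hc0, ?_, ?_⟩
  · exact hc x
  · intro x
    simp
  · intro y
    simp only [LinearMap.coe_comp, LinearEquiv.coe_coe, Submodule.coe_subtype, Function.comp_apply]
    rw [← LinearEquiv.eq_symm_apply, map_smul]
    apply Subtype.ext
    simp

/-- A finite module over a domain is torsion free iff it embeds in a finite free module. -/
theorem isTorsionFree_iff_exists_injective (M : Type v) [AddCommGroup M] [Module R M]
    [Module.Finite R M] :
    Module.IsTorsionFree R M ↔ ∃ (n : ℕ) (f : M →ₗ[R] (Fin n → R)), Function.Injective f := by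
  constructor
  · intro h
    obtain ⟨n, f, g, c, hc, hgf, -⟩ := exists_quasi_inverse (R := R) M
    refine ⟨n, f, ?_⟩
    rw [injective_iff_map_eq_zero]
    intro x hx
    have h1 := hgf x
    rw [hx, map_zero] at h1
    exact smul_eq_zero_of hc h1.symm
  · rintro ⟨n, f, hf⟩
    exact hf.moduleIsTorsionFree _ (fun r m => map_smul f r m)

/-- The dual of a module over a domain is torsion free. -/
theorem dual_isTorsionFree (N : Type v) [AddCommGroup N] [Module R N] :
    Module.IsTorsionFree R (Module.Dual R N) := by
  refine isTorsionFree_of fun c φ hc h => ?_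
  ext n
  have := LinearMap.congr_fun h n
  simp only [LinearMap.smul_apply, smul_eq_mul, LinearMap.zero_apply] at this
  exact (mul_eq_zero.mp this).resolve_left hc

theorem linearMap_isTorsionFree (M : Type w) [AddCommGroup M] [Module R M]
    (N : Type v) [AddCommGroup N] [Module R N] [Module.IsTorsionFree R N] :
    Module.IsTorsionFree R (M →ₗ[R] N) := by
  refine isTorsionFree_of fun c φ hc h => ?_
  ext n
  have := LinearMap.congr_fun h n
  simp only [LinearMap.smul_apply, LinearMap.zero_apply] at this
  exact smul_eq_zero_of hc this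

/-- One nonzero scalar kills the kernel and the cokernel of the evaluation map. -/
theorem eval_ker_coker_torsion (M : Type v) [AddCommGroup M] [Module R M]
    [Module.Finite R M] :
    ∃ c : R, c ≠ 0 ∧ (∀ x : M, Module.Dual.eval R M x = 0 → c • x = 0) ∧
      ∀ y : Module.Dual R (Module.Dual R M), c • y ∈ LinearMap.range (Module.Dual.eval R M) := by
  obtain ⟨n, f, g, c, hc, hgf, -⟩ := exists_quasi_inverse (R := R) M
  refine ⟨c, hc, fun x hx => ?_, fun y => ?_⟩
  · have h1 : f x = 0 := by
      funext i
      exact LinearMap.congr_fun hx (LinearMap.proj i ∘ₗ f)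
    rw [← hgf, h1, map_zero]
  · obtain ⟨z, hz⟩ := (Module.bijective_dual_eval R (Fin n → R)).2 (f.dualMap.dualMap y)
    refine ⟨g z, ?_⟩
    have h2 : Module.Dual.eval R M (g z) = g.dualMap.dualMap (Module.Dual.eval R (Fin n → R) z) := rfl
    rw [h2, hz]
    apply LinearMap.ext
    intro φ
    change y (f.dualMap (g.dualMap φ)) = c • y φ
    rw [← map_smul]
    congr 1
    apply LinearMap.ext
    intro x
    change φ (g (f x)) = c • φ x
    rw [hgf, map_smul]

theorem eval_injective_iff (M : Type v) [AddCommGroup M] [Module R M] [Module.Finite R M] :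
    Function.Injective (Module.Dual.eval R M) ↔ Module.IsTorsionFree R M := by
  constructor
  · intro h
    exact h.moduleIsTorsionFree _ (fun r m => map_smul _ r m)
  · intro h
    obtain ⟨c, hc, h1, -⟩ := eval_ker_coker_torsion (R := R) M
    rw [injective_iff_map_eq_zero]
    intro x hx
    exact smul_eq_zero_of hc (h1 x hx)

/-- In an exact sequence `0 → M → M' → M''` with `M` finite, `M'` reflexive and `M''` torsion free,
`M` is reflexive. -/
theorem isReflexive_of_exact {M : Type v} {M' : Type v'} {M'' : Type w} [AddCommGroup M] [Module R M]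
    [Module.Finite R M] [AddCommGroup M'] [Module R M'] [AddCommGroup M''] [Module R M'']
    (f : M →ₗ[R] M') (g : M' →ₗ[R] M'') (hf : Function.Injective f) (hfg : Function.Exact f g)
    [Module.IsReflexive R M'] [Module.IsTorsionFree R M''] : Module.IsReflexive R M := by
  have hM' : Module.IsTorsionFree R M' := inferInstance
  have hM : Module.IsTorsionFree R M := hf.moduleIsTorsionFree _ (fun r m => map_smul f r m)
  have hMdd : Module.IsTorsionFree R (Module.Dual R (Module.Dual R M)) := dual_isTorsionFree _
  obtain ⟨c, hc, -, h2⟩ := eval_ker_coker_torsion (R := R) M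
  have hev' := Module.bijective_dual_eval R M'
  have hnat : ∀ m, f.dualMap.dualMap (Module.Dual.eval R M m) = Module.Dual.eval R M' (f m) :=
    fun m => rfl
  have hinj : ∀ z, f.dualMap.dualMap z = 0 → z = 0 := by
    intro z hz
    obtain ⟨m, hm⟩ := h2 z
    have h3 : Module.Dual.eval R M' (f m) = 0 := by
      rw [← hnat, hm, map_smul, hz, smul_zero]
    have h4 : m = 0 := hf (by rw [map_zero]; exact hev'.1 (by rw [h3, map_zero]))
    rw [h4, map_zero] at hm
    exact smul_eq_zero_of hc hm.symm
  refine ⟨(eval_injective_iff M).mpr hM, fun y => ?_⟩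
  obtain ⟨m, hm⟩ := h2 y
  obtain ⟨m', hm'⟩ := hev'.2 (f.dualMap.dualMap y)
  have h5 : c • m' = f m := by
    apply hev'.1
    rw [map_smul, hm', ← map_smul, ← hm, hnat]
  have h6 : g m' = 0 := by
    apply smul_eq_zero_of hc
    rw [← map_smul, h5]
    exact hfg.apply_apply_eq_zero m
  obtain ⟨m₁, hm₁⟩ := (hfg m').mp h6
  refine ⟨m₁, ?_⟩
  rw [← sub_eq_zero]
  apply hinj
  rw [map_sub, hnat, hm₁, hm', sub_self]

/-- Flat base change to a domain preserves torsion-freeness. -/
theorem isTorsionFree_baseChange (R' : Type w) [CommRing R'] [IsDomain R'] [Algebra R R']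
    [Module.Flat R R'] (M : Type v) [AddCommGroup M] [Module R M]
    [Module.IsTorsionFree R M] : Module.IsTorsionFree R' (R' ⊗[R] M) := by
  let K := FractionRing R
  have hloc : IsLocalizedModule (nonZeroDivisors R) (TensorProduct.mk R K M 1) :=
    (isLocalizedModule_iff_isBaseChange (nonZeroDivisors R) K _).mpr (TensorProduct.isBaseChange R M K)
  have h1 : Function.Injective (TensorProduct.mk R K M 1) := by
    rw [injective_iff_map_eq_zero]
    intro m hm
    obtain ⟨c, hc⟩ := (IsLocalizedModule.eq_zero_iff (nonZeroDivisors R) (TensorProduct.mk R K M 1)).mp hm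
    exact smul_eq_zero_of (nonZeroDivisors.coe_ne_zero c) hc
  have hKM : Module.Flat R (K ⊗[R] M) := by
    have : Module.Flat R K := IsLocalization.flat K (nonZeroDivisors R)
    have : Module.Flat K (K ⊗[R] M) := inferInstance
    exact Module.Flat.trans R K (K ⊗[R] M)
  have h2 : Function.Injective ((TensorProduct.mk R K M 1).baseChange R') :=
    Module.Flat.lTensor_preserves_injective_linearMap _ h1
  have h3 : Module.Flat R' (R' ⊗[R] (K ⊗[R] M)) := inferInstance
  have h4 : Module.IsTorsionFree R' (R' ⊗[R] (K ⊗[R] M)) := inferInstance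
  exact h2.moduleIsTorsionFree _ (fun r m => map_smul _ r m)

end K63.TorsionFree
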