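import Groth.Agent.CalgA.ML4
import Mathlib.Algebra.Colimit.Module
import Mathlib.Algebra.Module.FinitePresentation
import Mathlib.Order.Directed
import Mathlib.Data.Set.Countable

/-!
# Countable subcolimits of Mittag-Leffler modules

* `exists_lift`: a map from a finitely presented module to a direct limit factors through a stage.
* `exists_dominating_index`: for a Mittag-Leffler direct limit of finitely presented modules the
  kernel of `G i → M` dies at some stage `j`.
-/

set_option autoImplicit false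
universe u v w

namespace K63.CountSub

open Module TensorProduct

variable {R : Type u} [CommRing R]
    {ι : Type v} [Preorder ι] [IsDirectedOrder ι] [Nonempty ι] [DecidableEq ι] {G : ι → Type w}
    [∀ i, AddCommGroup (G i)] [∀ i, Module R (G i)]
    (f : ∀ i j, i ≤ j → G i →ₗ[R] G j) [DirectedSystem G fun i j h => f i j h]

/-- A map from a finitely presented module to a direct limit factors through a stage. -/
theorem exists_lift {P : Type*} [AddCommGroup P] [Module R P] [Module.FinitePresentation R P]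
    (h : P →ₗ[R] Module.DirectLimit G f) :
    ∃ (i : ι) (h' : P →ₗ[R] G i), Module.DirectLimit.of R ι G f i ∘ₗ h' = h := by
  classical
  obtain ⟨n, K, e, hK⟩ := Module.FinitePresentation.exists_fin R P
  have h1 : ∀ k : Fin n, ∃ (i : ι) (x : G i), Module.DirectLimit.of R ι G f i x =
      h (e.symm (K.mkQ (Pi.single k 1))) := fun k => Module.DirectLimit.exists_of _
  choose i x hx using h1
  obtain ⟨i₀, hi₀⟩ := Finite.exists_le i
  let φ : (Fin n → R) →ₗ[R] G i₀ := (Pi.basisFun R (Fin n)).constr R fun k => f (i k) i₀ (hi₀ k) (x k)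
  have hφ : Module.DirectLimit.of R ι G f i₀ ∘ₗ φ = h ∘ₗ e.symm.toLinearMap ∘ₗ K.mkQ := by
    apply (Pi.basisFun R (Fin n)).ext
    intro k
    have h2 : φ (Pi.basisFun R (Fin n) k) = f (i k) i₀ (hi₀ k) (x k) := Basis.constr_basis _ _ _ _
    rw [LinearMap.comp_apply, h2, Module.DirectLimit.of_f, hx]
    simp
  obtain ⟨T, hT⟩ := hK
  have h3 : ∀ t : T, ∃ (j : ι) (hj : i₀ ≤ j), f i₀ j hj (φ t) = 0 := by
    intro t
    apply Module.DirectLimit.of.zero_exact
    have h4 := LinearMap.congr_fun hφ (t : Fin n → R)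
    rw [LinearMap.comp_apply] at h4
    rw [h4]
    have h5 : K.mkQ (t : Fin n → R) = 0 := by
      rw [Submodule.mkQ_apply, Submodule.Quotient.mk_eq_zero, ← hT]
      exact Submodule.subset_span t.2
    simp [LinearMap.comp_apply, h5]
  choose j hj hj0 using h3
  obtain ⟨j₀, hj₀⟩ := Finite.exists_le j
  obtain ⟨j₁, hj₁, hij⟩ := exists_ge_ge j₀ i₀
  have h6 : K ≤ LinearMap.ker (f i₀ j₁ hij ∘ₗ φ) := by
    rw [← hT, Submodule.span_le]
    intro t ht
    rw [SetLike.mem_coe, LinearMap.mem_ker, LinearMap.comp_apply]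
    have h7 := hj0 ⟨t, ht⟩
    have h8 := DirectedSystem.map_map' (f := fun i j h => f i j h) (hj ⟨t, ht⟩)
      ((hj₀ ⟨t, ht⟩).trans hj₁) (φ t)
    rw [← h8, h7, map_zero]
  refine ⟨j₁, K.liftQ _ h6 ∘ₗ e.toLinearMap, ?_⟩
  have h9 : ∀ y, (Module.DirectLimit.of R ι G f j₁ ∘ₗ (K.liftQ _ h6)) y = (h ∘ₗ e.symm.toLinearMap) y := by
    intro y
    obtain ⟨y, rfl⟩ := K.mkQ_surjective y
    have h10 := LinearMap.congr_fun hφ y
    simp only [LinearMap.comp_apply] at h10 ⊢
    rw [← h10]
    change Module.DirectLimit.of R ι G f j₁ (f i₀ j₁ hij (φ y)) = _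
    rw [Module.DirectLimit.of_f]
  apply LinearMap.ext
  intro p
  have := h9 (e p)
  simpa using this

/-- Two maps from a finite module which agree in the limit agree at some stage. -/
theorem exists_eq {P : Type*} [AddCommGroup P] [Module R P] [Module.Finite R P] {i : ι}
    (a b : P →ₗ[R] G i)
    (h : Module.DirectLimit.of R ι G f i ∘ₗ a = Module.DirectLimit.of R ι G f i ∘ₗ b) :
    ∃ (j : ι) (hj : i ≤ j), f i j hj ∘ₗ a = f i j hj ∘ₗ b := by
  classical
  obtain ⟨T, hT⟩ := Module.Finite.fg_top (R := R) (M := P)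
  have h3 : ∀ t : T, ∃ (j : ι) (hj : i ≤ j), f i j hj ((a - b) t) = 0 := by
    intro t
    apply Module.DirectLimit.of.zero_exact
    rw [LinearMap.sub_apply, map_sub, sub_eq_zero]
    exact LinearMap.congr_fun h t
  choose j hj hj0 using h3
  obtain ⟨j₀, hj₀⟩ := Finite.exists_le j
  obtain ⟨j₁, hj₁, hij⟩ := exists_ge_ge j₀ i
  refine ⟨j₁, hij, ?_⟩
  rw [← sub_eq_zero, ← LinearMap.comp_sub]
  have h6 : (⊤ : Submodule R P) ≤ LinearMap.ker (f i j₁ hij ∘ₗ (a - b)) := by
    rw [← hT, Submodule.span_le]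
    intro t ht
    rw [SetLike.mem_coe, LinearMap.mem_ker, LinearMap.comp_apply]
    have h7 := hj0 ⟨t, ht⟩
    have h8 := DirectedSystem.map_map' (f := fun i j h => f i j h) (hj ⟨t, ht⟩)
      ((hj₀ ⟨t, ht⟩).trans hj₁) ((a - b) t)
    rw [← h8, h7, map_zero]
  exact LinearMap.ker_eq_top.mp (top_le_iff.mp h6)

end K63.CountSub

namespace K63.CountSub

open Module TensorProduct

variable {R : Type u} [CommRing R]
    {ι : Type u} [Preorder ι] [IsDirectedOrder ι] [Nonempty ι] [DecidableEq ι] (G : ι → Type u)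
    [∀ i, AddCommGroup (G i)] [∀ i, Module R (G i)] [∀ i, Module.FinitePresentation R (G i)]
    (f : ∀ i j, i ≤ j → G i →ₗ[R] G j) [DirectedSystem G fun i j h => f i j h]

/-- Elements of `G i` which die in a Mittag-Leffler limit die at one stage. -/
theorem exists_dominating_index (hML : CAlg.IsMittagLeffler R (Module.DirectLimit G f)) (i : ι) :
    ∃ (j : ι) (hj : i ≤ j), ∀ x : G i, Module.DirectLimit.of R ι G f i x = 0 → f i j hj x = 0 := by
  obtain ⟨P', _, _, g, h, hfp, hgh, hdom⟩ :=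
    Groth.Agent.CalgA.ML4.exists_dominating hML (Module.DirectLimit.of R ι G f i)
  obtain ⟨j₀, h', hh'⟩ := exists_lift f h
  obtain ⟨j₁, hi1, h01⟩ := exists_ge_ge i j₀
  obtain ⟨j₂, h12, heq⟩ := exists_eq f (f i j₁ hi1) (f j₀ j₁ h01 ∘ₗ h' ∘ₗ g) (by
    apply LinearMap.ext
    intro x
    simp only [LinearMap.comp_apply, Module.DirectLimit.of_f]
    have h1 := LinearMap.congr_fun hgh x
    have h2 := LinearMap.congr_fun hh' (g x)
    rw [LinearMap.comp_apply] at h1 h2
    rw [h2, h1])
  refine ⟨j₂, hi1.trans h12, fun x hx => ?_⟩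
  have hgx : g x = 0 := by
    have h3 : ((Module.DirectLimit.of R ι G f i).rTensor R) (x ⊗ₜ[R] (1 : R)) = 0 := by
      rw [LinearMap.rTensor_tmul, hx, TensorProduct.zero_tmul]
    have h4 := hdom R (x ⊗ₜ[R] (1 : R)) h3
    rw [LinearMap.rTensor_tmul] at h4
    have h5 := congrArg (TensorProduct.rid R P') h4
    simpa using h5
  have h6 := LinearMap.congr_fun heq x
  simp only [LinearMap.comp_apply, hgx, map_zero] at h6
  have h8 := DirectedSystem.map_map' (f := fun i j h => f i j h) hi1 h12 x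
  rw [← h8]
  exact h6

theorem exists_countable (hML : CAlg.IsMittagLeffler R (Module.DirectLimit G f))
    (hc : CAlg.IsCountablyGenerated R (Module.DirectLimit G f)) :
    ∃ I' : Set ι, I'.Countable ∧ DirectedOn (· ≤ ·) I' ∧
      Function.Bijective (Module.DirectLimit.lift R I' (fun i : I' => G i.1)
        (fun (i j : I') (h : i ≤ j) => f i.1 j.1 h)
        (fun i : I' => Module.DirectLimit.of R ι G f i.1)
        (fun (i j : I') (h : i ≤ j) (x : G i.1) => Module.DirectLimit.of_f)) := by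
  obtain ⟨s, hs, hs'⟩ := hc
  obtain ⟨x, hx⟩ := (hs.insert 0).exists_eq_range ⟨0, Set.mem_insert _ _⟩
  have hxspan : Submodule.span R (Set.range x) = ⊤ := by
    rw [← hx, eq_top_iff, ← hs']
    exact Submodule.span_mono (Set.subset_insert _ _)
  choose δ hδ hδ' using exists_dominating_index G f hML
  have h1 : ∀ n, ∃ (a : ι) (y : G a), Module.DirectLimit.of R ι G f a y = x n :=
    fun n => Module.DirectLimit.exists_of _
  choose a y hy using h1
  have h2 : ∀ (i : ι) (n : ℕ), ∃ k, δ i ≤ k ∧ a n ≤ k := fun i n => by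
    obtain ⟨k, hk1, hk2⟩ := exists_ge_ge (δ i) (a n)
    exact ⟨k, hk1, hk2⟩
  choose nx hnx1 hnx2 using h2
  let i : ℕ → ι := fun n => Nat.rec (a 0) (fun n i => nx i (n + 1)) n
  have hsucc : ∀ n, i (n + 1) = nx (i n) (n + 1) := fun n => rfl
  have hmono : Monotone i := monotone_nat_of_le_succ fun n => by
    rw [hsucc]
    exact (hδ (i n)).trans (hnx1 _ _)
  have ha : ∀ n, a n ≤ i n := by
    intro n
    cases n with
    | zero => exact le_rfl
    | succ n =>
      rw [hsucc]
      exact hnx2 _ _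
  have hdir : DirectedOn (· ≤ ·) (Set.range i) := by
    rintro _ ⟨m, rfl⟩ _ ⟨n, rfl⟩
    exact ⟨i (max m n), ⟨_, rfl⟩, hmono (le_max_left _ _), hmono (le_max_right _ _)⟩
  refine ⟨Set.range i, Set.countable_range i, hdir, ?_, ?_⟩
  · have : Nonempty (Set.range i) := ⟨⟨i 0, 0, rfl⟩⟩
    have : IsDirectedOrder (Set.range i) := ⟨fun p q => by
      obtain ⟨r, hr, h3, h4⟩ := hdir p.1 p.2 q.1 q.2
      exact ⟨⟨r, hr⟩, h3, h4⟩⟩
    rw [injective_iff_map_eq_zero]
    intro z hz
    obtain ⟨⟨_, n, rfl⟩, w, rfl⟩ := Module.DirectLimit.exists_of z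
    rw [Module.DirectLimit.lift_of] at hz
    have h5 : i n ≤ i (n + 1) := hmono (Nat.le_succ n)
    have h6 : f (i n) (i (n + 1)) h5 w = 0 := by
      have h7 := hδ' (i n) w hz
      have h8 := DirectedSystem.map_map' (f := fun i j h => f i j h) (hδ (i n))
        (hnx1 (i n) (n + 1)) w
      rw [h7, map_zero] at h8
      exact h8.symm
    have h9 := Module.DirectLimit.of_f (R := R) (G := fun i' : Set.range i => G i'.1)
      (f := fun (i' j : Set.range i) (h : i' ≤ j) => f i'.1 j.1 h)
      (i := ⟨i n, n, rfl⟩) (j := ⟨i (n + 1), n + 1, rfl⟩) (hij := h5) (x := w)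
    rw [← h9]
    refine (congrArg _ h6).trans (map_zero _)
  · rw [← LinearMap.range_eq_top, eq_top_iff, ← hxspan, Submodule.span_le]
    rintro _ ⟨n, rfl⟩
    refine ⟨Module.DirectLimit.of R (Set.range i) (fun i' : Set.range i => G i'.1)
      (fun (i' j : Set.range i) (h : i' ≤ j) => f i'.1 j.1 h) ⟨i n, n, rfl⟩
      (f (a n) (i n) (ha n) (y n)), ?_⟩
    rw [Module.DirectLimit.lift_of, Module.DirectLimit.of_f, hy]

end K63.CountSub
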