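import Mathlib.Algebra.DirectSum.Module
import Mathlib.Algebra.DirectSum.LinearMap
import Mathlib.LinearAlgebra.DFinsupp
import Mathlib.Order.SuccPred.Limit
import Mathlib.LinearAlgebra.Quotient.Basic
import Mathlib.LinearAlgebra.Isomorphisms

/-!
# Direct sum dévissage

For an increasing family of submodules `M_s` indexed by a well-ordered set, continuous at
non-successors, with `M_s` a direct summand of `M_t` for `s ⋖ t`, the module is the internal direct
sum of the chosen complements.
-/

set_option autoImplicit false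
universe u v w

namespace K63.Devissage

open Order

variable {R : Type u} [CommRing R] {M : Type v} [AddCommGroup M] [Module R M]
  {S : Type w} [LinearOrder S]

/-- Independence from partial disjointness along a linear order. -/
theorem iSupIndep_of_linear {ι : Type*} [LinearOrder ι] (N : ι → Submodule R M)
    (h : ∀ i, Disjoint (⨆ j, ⨆ (_ : j < i), N j) (N i)) : iSupIndep N := by
  classical
  apply iSupIndep_of_dfinsupp_lsum_injective N
  rw [injective_iff_map_eq_zero]
  intro f hf
  by_contra hne
  have hs : f.support.Nonempty := by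
    rw [Finset.nonempty_iff_ne_empty]
    intro h0
    exact hne (DFinsupp.support_eq_empty.mp h0)
  obtain ⟨i, hi, hmax⟩ := f.support.exists_max_image id hs
  have h1 : ∑ j ∈ f.support, ((f j : N j) : M) = 0 := by
    have := hf
    rw [DFinsupp.lsum_apply_apply, DFinsupp.sumAddHom_apply, DFinsupp.sum] at this
    exact this
  rw [← Finset.add_sum_erase _ _ hi] at h1
  have h2 : ((f i : N i) : M) ∈ (⨆ j, ⨆ (_ : j < i), N j) := by
    rw [add_eq_zero_iff_eq_neg.mp h1]
    apply Submodule.neg_mem
    apply Submodule.sum_mem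
    intro j hj
    rw [Finset.mem_erase] at hj
    have hji : j < i := lt_of_le_of_ne (hmax j hj.2) hj.1
    exact Submodule.mem_iSup_of_mem j (Submodule.mem_iSup_of_mem hji (f j).2)
  have h3 : ((f i : N i) : M) = 0 := by
    have := (Submodule.disjoint_def.mp (h i)) _ h2 (f i).2
    exact this
  rw [DFinsupp.mem_support_iff] at hi
  exact hi (Subtype.ext h3)

variable [WellFoundedLT S] (Mf : S → Submodule R M) (hmono : Monotone Mf)
  (hlim : ∀ s : S, Order.IsSuccPrelimit s → Mf s = ⨆ t : {t : S // t < s}, Mf t.1)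
  (htop : (⨆ s, Mf s) = ⊤)
  (C : {p : S × S // p.1 ⋖ p.2} → Submodule R M)
  (hC : ∀ p, Mf p.1.1 ⊓ C p = ⊥ ∧ Mf p.1.1 ⊔ C p = Mf p.1.2)

include hlim hC in
theorem le_iSup_C (t : S) : Mf t ≤ ⨆ p, C p := by
  induction t using WellFoundedLT.induction with
  | ind t ih =>
    by_cases ht : Order.IsSuccPrelimit t
    · rw [hlim t ht]
      exact iSup_le fun s => ih s.1 s.2
    · rw [Order.not_isSuccPrelimit_iff] at ht
      obtain ⟨s, hs⟩ := ht
      rw [← (hC ⟨(s, t), hs⟩).2]
      exact sup_le (ih s hs.lt) (le_iSup C ⟨(s, t), hs⟩)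

omit [WellFoundedLT S] in
include hC in
theorem C_le (p : {p : S × S // p.1 ⋖ p.2}) : C p ≤ Mf p.1.2 := by
  rw [← (hC p).2]
  exact le_sup_right

include hmono hlim htop hC in
/-- The complements of a dévissage form an internal direct sum. -/
theorem isInternal [DecidableEq {p : S × S // p.1 ⋖ p.2}] : DirectSum.IsInternal C := by
  rw [DirectSum.isInternal_submodule_iff_iSupIndep_and_iSup_eq_top]
  constructor
  · -- transport the linear order through the second component
    have hinj : Function.Injective (fun p : {p : S × S // p.1 ⋖ p.2} => p.1.2) := by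
      intro p q hpq
      have h1 : p.1.1 = q.1.1 := by
        have hp := p.2
        have hq := q.2
        have hpq' : p.1.2 = q.1.2 := hpq
        rw [← hpq'] at hq
        exact hp.unique_left hq
      exact Subtype.ext (Prod.ext h1 hpq)
    let : LinearOrder {p : S × S // p.1 ⋖ p.2} := LinearOrder.lift' _ hinj
    apply iSupIndep_of_linear
    intro p
    rw [disjoint_iff, eq_bot_iff, ← (hC p).1]
    refine inf_le_inf ?_ le_rfl
    refine iSup_le fun q => iSup_le fun hq => ?_
    have hq' : q.1.2 < p.1.2 := hq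
    refine (C_le Mf C hC q).trans (hmono ?_)
    exact p.2.le_of_lt hq'
  · rw [eq_top_iff, ← htop]
    exact iSup_le fun t => le_iSup_C Mf hlim C hC t

/-- A complement is isomorphic to the quotient. -/
noncomputable def complEquiv (A B C : Submodule R M) (h1 : A ⊓ C = ⊥) (h2 : A ⊔ C = B) :
    C ≃ₗ[R] (B ⧸ Submodule.comap B.subtype A) := by
  have hCB : C ≤ B := h2 ▸ le_sup_right
  refine LinearEquiv.ofBijective ((Submodule.comap B.subtype A).mkQ ∘ₗ Submodule.inclusion hCB) ⟨?_, ?_⟩
  · rw [injective_iff_map_eq_zero]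
    intro x hx
    rw [LinearMap.comp_apply, Submodule.mkQ_apply, Submodule.Quotient.mk_eq_zero] at hx
    have h3 : (x : M) ∈ A ⊓ C := ⟨hx, x.2⟩
    rw [h1, Submodule.mem_bot] at h3
    exact Subtype.ext h3
  · intro y
    obtain ⟨⟨y, hy⟩, rfl⟩ := Submodule.mkQ_surjective _ y
    have hy' := hy
    rw [← h2] at hy'
    obtain ⟨a, ha, c, hc, hac⟩ := Submodule.mem_sup.mp hy'
    refine ⟨⟨c, hc⟩, ?_⟩
    rw [LinearMap.comp_apply, Submodule.mkQ_apply, Submodule.mkQ_apply, Submodule.Quotient.eq]
    change c - y ∈ A
    rw [← hac]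
    simpa using ha

end K63.Devissage
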