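import Groth.Agent.S0393
import Mathlib.LinearAlgebra.TensorProduct.Quotient
import Mathlib.RingTheory.Ideal.Maps
import Mathlib.LinearAlgebra.TensorProduct.RightExactness

/-!
# Exactness modulo the maximal ideal implies exactness and flatness

`step`: for `A → B → D` linear maps of modules over a Noetherian local `R`-algebra `S` with `B`
finite and `D` flat over `R`, exactness modulo `𝔪_R S` in the middle implies exactness and flatness
of the cokernel of `B → D`.
-/

set_option autoImplicit false
universe u v w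

namespace K63.ExactMod

open scoped TensorProduct

open Function

/-- `1 ⊗ x = 0` in `R/I ⊗ M` iff `x ∈ IM`. -/
theorem one_tmul_eq_zero_iff {R : Type*} [CommRing R] (I : Ideal R) {M : Type*} [AddCommGroup M]
    [Module R M] (x : M) : (1 : R ⧸ I) ⊗ₜ[R] x = 0 ↔ x ∈ I • (⊤ : Submodule R M) := by
  rw [← (TensorProduct.quotTensorEquivQuotSMul M I).map_eq_zero_iff,
    TensorProduct.quotTensorEquivQuotSMul_mk_one_tmul, Submodule.Quotient.mk_eq_zero]

theorem exists_one_tmul {R : Type*} [CommRing R] (I : Ideal R) {M : Type*} [AddCommGroup M]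
    [Module R M] (z : (R ⧸ I) ⊗[R] M) : ∃ x : M, (1 : R ⧸ I) ⊗ₜ[R] x = z :=
  TensorProduct.mk_surjective R M (R ⧸ I) Ideal.Quotient.mk_surjective z

theorem mem_smul_top_iff {R S M : Type*} [CommRing R] [CommRing S] [Algebra R S] [AddCommGroup M]
    [Module R M] [Module S M] [IsScalarTower R S M] (I : Ideal R) (x : M) :
    x ∈ (I.map (algebraMap R S)) • (⊤ : Submodule S M) ↔ x ∈ I • (⊤ : Submodule R M) := by
  have := Ideal.smul_restrictScalars (S := S) I (⊤ : Submodule S M)
  rw [← Submodule.restrictScalars_mem R, this, Submodule.restrictScalars_top]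

theorem step {R S : Type u} [CommRing R] [CommRing S] [IsLocalRing R] [IsLocalRing S]
    [IsNoetherianRing S] [Algebra R S] [IsLocalHom (algebraMap R S)]
    {A B D : Type u} [AddCommGroup A] [Module S A] [AddCommGroup B] [Module S B] [Module.Finite S B]
    [AddCommGroup D] [Module S D] [Module R D] [IsScalarTower R S D] [Module.Flat R D]
    (f : A →ₗ[S] B) (g : B →ₗ[S] D) (hgf : ∀ a, g (f a) = 0)
    (hex : Function.Exact
      (f.lTensor (S ⧸ (IsLocalRing.maximalIdeal R).map (algebraMap R S)))
      (g.lTensor (S ⧸ (IsLocalRing.maximalIdeal R).map (algebraMap R S)))) :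
    Function.Exact f g ∧ ∀ (Q : Type u) [AddCommGroup Q] [Module S Q] [Module R Q]
      [IsScalarTower R S Q] (q : D →ₗ[S] Q), Surjective q → Function.Exact g q →
        Module.Flat R Q := by
  set J := (IsLocalRing.maximalIdeal R).map (algebraMap R S) with hJ
  -- the quotient of `B` by the image of `f`
  let N := B ⧸ LinearMap.range f
  let : Module R N := Module.compHom N (algebraMap R S)
  have : IsScalarTower R S N := ⟨fun r s m => by
    change (r • s) • m = (algebraMap R S r) • (s • m)
    rw [Algebra.smul_def, mul_smul]⟩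
  let u : N →ₗ[S] D := (LinearMap.range f).liftQ g (by
    rintro _ ⟨a, rfl⟩
    exact hgf a)
  have hu : ∀ b : B, u (Submodule.Quotient.mk b) = g b := fun b => rfl
  -- the reduction of `u` is injective
  have hinj : Injective (LinearMap.lTensor (IsLocalRing.ResidueField R) (u.restrictScalars R)) := by
    rw [injective_iff_map_eq_zero]
    intro z hz
    obtain ⟨x, rfl⟩ := exists_one_tmul (IsLocalRing.maximalIdeal R) z
    have h1 : (1 : R ⧸ IsLocalRing.maximalIdeal R) ⊗ₜ[R] (u x) = 0 := hz
    rw [one_tmul_eq_zero_iff, ← mem_smul_top_iff (S := S)] at h1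
    suffices h : x ∈ (IsLocalRing.maximalIdeal R) • (⊤ : Submodule R N) from
      (one_tmul_eq_zero_iff _ _).mpr h
    rw [← mem_smul_top_iff (S := S)]
    obtain ⟨b, rfl⟩ := Submodule.Quotient.mk_surjective _ x
    rw [hu] at h1
    have h2 : g.lTensor (S ⧸ J) ((1 : S ⧸ J) ⊗ₜ[S] b) = 0 := by
      rw [LinearMap.lTensor_tmul, one_tmul_eq_zero_iff]
      exact h1
    obtain ⟨w, hw⟩ := (hex _).mp h2
    obtain ⟨a, rfl⟩ := exists_one_tmul J w
    rw [LinearMap.lTensor_tmul] at hw
    have h3 : (1 : S ⧸ J) ⊗ₜ[S] (b - f a) = 0 := by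
      rw [TensorProduct.tmul_sub, hw, sub_self]
    rw [one_tmul_eq_zero_iff] at h3
    have h4 : (Submodule.Quotient.mk b : N) = (LinearMap.range f).mkQ (b - f a) := by
      rw [map_sub, Submodule.mkQ_apply, Submodule.mkQ_apply, sub_eq_self.mpr]
      rw [Submodule.Quotient.mk_eq_zero]
      exact ⟨a, rfl⟩
    rw [h4]
    exact Submodule.smul_top_le_comap_smul_top J _ h3
  obtain ⟨h5, h6⟩ := Groth.Agent.S0393.result (S := S) (u.restrictScalars R) hinj
  have hexfg : Function.Exact f g := by
    intro b
    constructor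
    · intro hb
      have h7 : (Submodule.Quotient.mk b : N) = 0 := h5 (by
        rw [map_zero]
        exact hb)
      rw [Submodule.Quotient.mk_eq_zero] at h7
      exact h7
    · rintro ⟨a, rfl⟩
      exact hgf a
  refine ⟨hexfg, fun Q _ _ _ _ q hq hgq => ?_⟩
  have h8 : LinearMap.range (u.restrictScalars R) = LinearMap.ker (q.restrictScalars R) := by
    ext x
    constructor
    · rintro ⟨y, rfl⟩
      obtain ⟨b, rfl⟩ := Submodule.Quotient.mk_surjective _ y
      exact (hgq _).mpr ⟨b, rfl⟩
    · intro hx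
      obtain ⟨b, rfl⟩ := (hgq x).mp hx
      exact ⟨Submodule.Quotient.mk b, rfl⟩
  have e : (D ⧸ LinearMap.range (u.restrictScalars R)) ≃ₗ[R] Q :=
    (Submodule.quotEquivOfEq _ _ h8) ≪≫ₗ
      ((q.restrictScalars R).quotKerEquivOfSurjective hq)
  exact Module.Flat.of_linearEquiv e.symm

end K63.ExactMod
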