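import Groth.Agent.FlatA.LocalCriterion
import Mathlib.Algebra.Module.Torsion.Basic

/-!
# Flatness modulo the preimage of `I²R'`
-/

set_option autoImplicit false
universe u v w

namespace K63.FlatModSq

open scoped TensorProduct

open Function

/-- Injections between modules killed by `I` stay injective after tensoring with a module which is
flat modulo `I`. -/
theorem rTensor_injective_of_killed {R : Type*} [CommRing R] (I : Ideal R) {M : Type*} [AddCommGroup M]
    [Module R M] [Module.Flat (R ⧸ I) ((R ⧸ I) ⊗[R] M)] {K N : Type*} [AddCommGroup K] [Module R K]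
    [AddCommGroup N] [Module R N] (hK : ∀ r ∈ I, ∀ k : K, r • k = 0)
    (hN : ∀ r ∈ I, ∀ k : N, r • k = 0) (f : K →ₗ[R] N) (hf : Injective f) :
    Injective (f.rTensor M) := by
  let : Module (R ⧸ I) K := Module.IsTorsionBySet.module (I := I) (fun k r => hK r.1 r.2 k)
  let : Module (R ⧸ I) N := Module.IsTorsionBySet.module (I := I) (fun k r => hN r.1 r.2 k)
  have h1 : IsScalarTower R (R ⧸ I) K := ⟨fun r s k => by
    obtain ⟨s, rfl⟩ := Ideal.Quotient.mk_surjective s
    change (Ideal.Quotient.mk I (r * s)) • k = r • (s • k)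
    exact mul_smul r s k⟩
  have h2 : IsScalarTower R (R ⧸ I) N := ⟨fun r s k => by
    obtain ⟨s, rfl⟩ := Ideal.Quotient.mk_surjective s
    change (Ideal.Quotient.mk I (r * s)) • k = r • (s • k)
    exact mul_smul r s k⟩
  let f' : K →ₗ[R ⧸ I] N :=
    { f with
      map_smul' := fun s k => by
        obtain ⟨s, rfl⟩ := Ideal.Quotient.mk_surjective s
        exact f.map_smul s k }
  exact Groth.Agent.FlatA.LocalCriterion.rTensor_injective_of_flat_baseChange (R := R) (M := M)
    (R ⧸ I) f' hf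

/-- The converse transport. -/
theorem rTensor_baseChange_injective {R : Type*} [CommRing R] {M : Type*} [AddCommGroup M]
    [Module R M] (R' : Type*) [CommRing R'] [Algebra R R']
    {K N : Type*} [AddCommGroup K] [Module R K] [Module R' K]
    [IsScalarTower R R' K] [AddCommGroup N] [Module R N] [Module R' N] [IsScalarTower R R' N]
    (f : K →ₗ[R'] N) (hf : Injective ((f.restrictScalars R).rTensor M)) :
    Injective (f.rTensor (R' ⊗[R] M)) := by
  let e₁ := TensorProduct.AlgebraTensorModule.cancelBaseChange R R' R' K M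
  let e₂ := TensorProduct.AlgebraTensorModule.cancelBaseChange R R' R' N M
  have key : ∀ x, (f.restrictScalars R).rTensor M x = e₂ (f.rTensor (R' ⊗[R] M) (e₁.symm x)) := by
    intro x
    induction x using TensorProduct.induction_on with
    | zero => simp
    | tmul k m => simp [e₁, e₂]
    | add x y hx hy => rw [map_add, hx, hy]; simp only [map_add]
  intro x y hxy
  apply e₁.injective
  apply hf
  rw [key, key, LinearEquiv.symm_apply_apply, LinearEquiv.symm_apply_apply, hxy]

theorem killed {R : Type*} [CommRing R] (I : Ideal R) {C : Type*} [CommRing C] [Algebra R C]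
    (h : (I ^ 2).map (algebraMap R C) = ⊥) (r : R) (hr : r ∈ I)
    (x : I.map (algebraMap R C)) : r • x = 0 := by
  apply Subtype.ext
  have h1 : algebraMap R C r * (x : C) ∈ (I.map (algebraMap R C)) * (I.map (algebraMap R C)) :=
    Ideal.mul_mem_mul (Ideal.mem_map_of_mem _ hr) x.2
  rw [← Ideal.map_mul, ← pow_two, h, Ideal.mem_bot] at h1
  change r • (x : C) = 0
  rw [Algebra.smul_def]
  exact h1

/-- If `M/IM` is flat over `R/I` and `R' ⊗ M` is flat over `R'` then `M/I₂M` is flat over `R/I₂`,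
where `I₂` is the preimage of `I² R'`. -/
theorem flat_mod (R R' : Type u) [CommRing R] [CommRing R'] [Algebra R R']
    (I : Ideal R) (M : Type u) [AddCommGroup M] [Module R M] [Module.Flat (R ⧸ I) ((R ⧸ I) ⊗[R] M)]
    [Module.Flat R' (R' ⊗[R] M)] :
    Module.Flat (R ⧸ ((I ^ 2).map (algebraMap R R')).comap (algebraMap R R'))
      ((R ⧸ ((I ^ 2).map (algebraMap R R')).comap (algebraMap R R')) ⊗[R] M) := by
  set I₂ : Ideal R := ((I ^ 2).map (algebraMap R R')).comap (algebraMap R R') with hI₂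
  let B := R' ⧸ (I ^ 2).map (algebraMap R R')
  let J : Ideal (R ⧸ I₂) := I.map (algebraMap R (R ⧸ I₂))
  let J' : Ideal B := I.map (algebraMap R B)
  have hle : I ^ 2 ≤ I₂ := Ideal.le_comap_map
  have hA : (I ^ 2).map (algebraMap R (R ⧸ I₂)) = ⊥ := by
    rw [eq_bot_iff, Ideal.map_le_iff_le_comap]
    intro x hx
    rw [Ideal.mem_comap, Ideal.Quotient.algebraMap_eq, Ideal.mem_bot, Ideal.Quotient.eq_zero_iff_mem]
    exact hle hx
  have hB : (I ^ 2).map (algebraMap R B) = ⊥ := by
    rw [eq_bot_iff, Ideal.map_le_iff_le_comap]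
    intro x hx
    rw [Ideal.mem_comap, IsScalarTower.algebraMap_apply R R' B, Ideal.mem_bot]
    exact Ideal.Quotient.eq_zero_iff_mem.mpr (Ideal.mem_map_of_mem _ hx)
  let ι : (R ⧸ I₂) →ₐ[R] B := Ideal.Quotient.liftₐ I₂ (Algebra.ofId R B) (by
    intro a ha
    rw [Algebra.ofId_apply, IsScalarTower.algebraMap_apply R R' B]
    exact Ideal.Quotient.eq_zero_iff_mem.mpr ha)
  have hι : Injective ι := by
    rw [injective_iff_map_eq_zero]
    intro x hx
    obtain ⟨x, rfl⟩ := Ideal.Quotient.mk_surjective x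
    rw [Ideal.Quotient.eq_zero_iff_mem]
    have h1 : ι (Ideal.Quotient.mk I₂ x) = algebraMap R B x := rfl
    rw [h1, IsScalarTower.algebraMap_apply R R' B] at hx
    exact (Ideal.Quotient.eq_zero_iff_mem (I := (I ^ 2).map (algebraMap R R'))).mp hx
  have hJJ' : ∀ x ∈ J, ι x ∈ J' := by
    intro x hx
    have h1 : J.map ι.toRingHom ≤ J' := by
      rw [Ideal.map_le_iff_le_comap, Ideal.map_le_iff_le_comap]
      intro y hy
      rw [Ideal.mem_comap, Ideal.mem_comap]
      have : ι.toRingHom (algebraMap R (R ⧸ I₂) y) = algebraMap R B y := ι.commutes y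
      rw [this]
      exact Ideal.mem_map_of_mem _ hy
    exact h1 (Ideal.mem_map_of_mem _ hx)
  let f₁ : J →ₗ[R] J' :=
    { toFun := fun x => ⟨ι x, hJJ' x x.2⟩
      map_add' := fun x y => Subtype.ext (map_add ι (x : R ⧸ I₂) y)
      map_smul' := fun r x => Subtype.ext (map_smul ι r (x : R ⧸ I₂)) }
  have hf₁ : Injective f₁ := fun x y hxy => Subtype.ext (hι (congrArg Subtype.val hxy))
  let f₂ : J' →ₗ[R'] B := J'.subtype.restrictScalars R'
  have hf₂ : Injective f₂ := Subtype.val_injective
  have h1 : Injective (f₁.rTensor M) :=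
    rTensor_injective_of_killed I (fun r hr x => killed I hA r hr x) (fun r hr x => killed I hB r hr x)
      f₁ hf₁
  have h2 : Injective ((f₂.restrictScalars R).rTensor M) :=
    Groth.Agent.FlatA.LocalCriterion.rTensor_injective_of_flat_baseChange (R := R) (M := M) R' f₂ hf₂
  have h3 : (f₂.restrictScalars R) ∘ₗ f₁ = ι.toLinearMap ∘ₗ (J.subtype.restrictScalars R) := rfl
  have h4 : Injective ((J.subtype.restrictScalars R).rTensor M) := by
    have h5 : Injective (((f₂.restrictScalars R) ∘ₗ f₁).rTensor M) := by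
      rw [LinearMap.rTensor_comp]
      exact h2.comp h1
    rw [h3, LinearMap.rTensor_comp] at h5
    exact Injective.of_comp h5
  refine Groth.Agent.FlatA.LocalCriterion.flat_of_isNilpotent J ⟨2, ?_⟩ ?_ ?_
  · change (I.map (algebraMap R (R ⧸ I₂))) ^ 2 = 0
    rw [← Ideal.map_pow, hA]
    rfl
  · exact rTensor_baseChange_injective (R := R) (M := M) (R ⧸ I₂) J.subtype h4
  · let D := (R ⧸ I₂) ⧸ J
    let φ : (R ⧸ I) →ₐ[R] D := Ideal.Quotient.liftₐ I (Algebra.ofId R D) (by
      intro a ha
      rw [Algebra.ofId_apply, IsScalarTower.algebraMap_apply R (R ⧸ I₂) D]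
      exact Ideal.Quotient.eq_zero_iff_mem.mpr (Ideal.mem_map_of_mem _ ha))
    let : Algebra (R ⧸ I) D := φ.toRingHom.toAlgebra
    have : IsScalarTower R (R ⧸ I) D := IsScalarTower.of_algebraMap_eq fun x => (φ.commutes x).symm
    have h6 : Module.Flat D (D ⊗[R ⧸ I] ((R ⧸ I) ⊗[R] M)) := inferInstance
    have e1 : D ⊗[R ⧸ I] ((R ⧸ I) ⊗[R] M) ≃ₗ[D] D ⊗[R] M :=
      TensorProduct.AlgebraTensorModule.cancelBaseChange R (R ⧸ I) D D M
    have e2 : D ⊗[R ⧸ I₂] ((R ⧸ I₂) ⊗[R] M) ≃ₗ[D] D ⊗[R] M :=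
      TensorProduct.AlgebraTensorModule.cancelBaseChange R (R ⧸ I₂) D D M
    exact Module.Flat.of_linearEquiv (e2 ≪≫ₗ e1.symm)

end K63.FlatModSq
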