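import Groth.Agent.FlatA.LocalCriterion
import Groth.Agent.Flat2B.FlatBC
import Mathlib.RingTheory.LocalRing.ResidueField.Basic
import Mathlib.LinearAlgebra.Basis.VectorSpace
import Mathlib.LinearAlgebra.FreeModule.Basic
import Mathlib.RingTheory.Flat.FaithfullyFlat.Basic

/-!
# Flatness and base change along squares of local rings
-/

set_option autoImplicit false
universe u v w

namespace K63.FlatSquare

open scoped TensorProduct

open Function

/-- If `M'` is an `R'`-module which is flat over `R`, then `I R' ⊗_{R'} M' → M'` is injective for each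
ideal `I` of `R`. -/
theorem rTensor_injective_of_map {R : Type*} {R' : Type*} [CommRing R] [CommRing R'] [Algebra R R']
    (I : Ideal R) (M' : Type*) [AddCommGroup M'] [Module R' M'] [Module R M'] [IsScalarTower R R' M']
    [Module.Flat R M'] : Injective ((I.map (algebraMap R R')).subtype.rTensor M') := by
  have hmem : ∀ a : I, algebraMap R R' a ∈ I.map (algebraMap R R') := fun a =>
    Ideal.mem_map_of_mem _ a.2
  let ψ : I ⊗[R] M' →ₗ[R] (I.map (algebraMap R R')) ⊗[R'] M' :=
    TensorProduct.lift (LinearMap.mk₂ R
      (fun a m => (⟨algebraMap R R' a, hmem a⟩ : I.map (algebraMap R R')) ⊗ₜ[R'] m)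
      (fun a b m => by
        rw [← TensorProduct.add_tmul]
        congr 1
        exact Subtype.ext (by simp))
      (fun c a m => by
        rw [TensorProduct.smul_tmul']
        congr 1
        exact Subtype.ext (by simp [Algebra.smul_def]))
      (fun a m n => by rw [TensorProduct.tmul_add])
      (fun c a m => by
        rw [TensorProduct.smul_tmul', ← algebraMap_smul R' c m, TensorProduct.tmul_smul,
          TensorProduct.smul_tmul']
        congr 1
        exact Subtype.ext (by simp [Algebra.smul_def])))
  have hψ : ∀ (a : I) (m : M'), ψ (a ⊗ₜ m) =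
      (⟨algebraMap R R' a, hmem a⟩ : I.map (algebraMap R R')) ⊗ₜ[R'] m := fun a m => rfl
  have hsurj : Surjective ψ := by
    intro z
    induction z with
    | zero => exact ⟨0, map_zero _⟩
    | add x y hx hy =>
      obtain ⟨x', rfl⟩ := hx
      obtain ⟨y', rfl⟩ := hy
      exact ⟨x' + y', map_add _ _ _⟩
    | tmul a m =>
      obtain ⟨a, ha⟩ := a
      -- induction on the element of the extended ideal
      have key : ∀ (a : R') (ha : a ∈ I.map (algebraMap R R')) (m : M'),
          ∃ y, ψ y = (⟨a, ha⟩ : I.map (algebraMap R R')) ⊗ₜ[R'] m := by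
        intro a ha
        induction ha using Submodule.span_induction with
        | mem x hx =>
          obtain ⟨r, hr, rfl⟩ := hx
          intro m
          exact ⟨(⟨r, hr⟩ : I) ⊗ₜ m, hψ _ _⟩
        | zero =>
          intro m
          refine ⟨0, ?_⟩
          rw [map_zero]
          exact (TensorProduct.zero_tmul _ m).symm
        | add x y hx hy ihx ihy =>
          intro m
          obtain ⟨x', hx'⟩ := ihx m
          obtain ⟨y', hy'⟩ := ihy m
          refine ⟨x' + y', ?_⟩
          rw [map_add, hx', hy', ← TensorProduct.add_tmul]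
          rfl
        | smul c x hx ih =>
          intro m
          obtain ⟨x', hx'⟩ := ih (c • m)
          refine ⟨x', ?_⟩
          rw [hx', ← TensorProduct.smul_tmul]
          rfl
      exact key a ha m
  have hcomp : ∀ y : I ⊗[R] M', TensorProduct.lid R' M' ((I.map (algebraMap R R')).subtype.rTensor M' (ψ y)) =
      TensorProduct.lid R M' (I.subtype.rTensor M' y) := by
    intro y
    induction y with
    | zero => simp
    | add x y hx hy => simp only [map_add, hx, hy]
    | tmul a m =>
      rw [hψ]
      simp
  have hflat : Injective (I.subtype.rTensor M') :=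
    Module.Flat.rTensor_preserves_injective_linearMap _ (Submodule.injective_subtype _)
  rw [injective_iff_map_eq_zero]
  intro x hx
  obtain ⟨y, rfl⟩ := hsurj x
  have h1 := hcomp y
  rw [hx, map_zero] at h1
  have h2 : y = 0 := by
    apply hflat
    apply (TensorProduct.lid R M').injective
    rw [← h1, map_zero, map_zero]
  rw [h2, map_zero]

/-- Flatness of `M' = M ⊗_S S'` over `R'`. -/
theorem flat_of_square {R S R' S' : Type u} [CommRing R] [CommRing S]
    [CommRing R'] [CommRing S'] [IsLocalRing R] [IsLocalRing R'] [IsLocalRing S']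
    [Algebra R S] [Algebra R R'] [Algebra S S'] [Algebra R' S'] [Algebra R S']
    [IsScalarTower R S S'] [IsScalarTower R R' S']
    [IsLocalHom (algebraMap R' S')] [Module.Flat S S']
    [IsNoetherianRing R'] [IsNoetherianRing S']
    (hm : (IsLocalRing.maximalIdeal R).map (algebraMap R R') = IsLocalRing.maximalIdeal R')
    (M : Type u) [AddCommGroup M] [Module S M] [Module R M] [IsScalarTower R S M] [Module.Finite S M]
    [Module.Flat R M]
    (M' : Type u) [AddCommGroup M'] [Module S' M'] [Module S M'] [IsScalarTower S S' M'] [Module R' M']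
    [IsScalarTower R' S' M'] (j : M →ₗ[S] M') (hj : IsBaseChange S' j) :
    Module.Flat R' M' := by
  let : Module R M' := Module.compHom M' (algebraMap R S')
  have hst1 : IsScalarTower R S' M' := ⟨fun r s m => by
    change (r • s) • m = (algebraMap R S' r) • (s • m)
    rw [Algebra.smul_def, mul_smul]⟩
  have hst2 : IsScalarTower R R' M' := ⟨fun r s m => by
    change (r • s) • m = (algebraMap R S' r) • (s • m)
    rw [Algebra.smul_def, mul_smul, IsScalarTower.algebraMap_apply R R' S',
      algebraMap_smul S' (algebraMap R R' r)]⟩
  have hfl : Module.Flat R M' := Groth.Agent.Flat2B.FlatBC.flat_of_isBaseChange (C := S') j hj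
  have hfin : Module.Finite S' M' := Module.Finite.equiv hj.equiv
  refine Groth.Agent.FlatA.LocalCriterion.flat_of_injective_of_flat_quotient (B := S')
    (IsLocalRing.maximalIdeal R') ?_ ?_ ?_
  · rw [IsLocalRing.jacobson_eq_maximalIdeal ⊥ bot_ne_top]
    exact ((IsLocalRing.local_hom_TFAE (algebraMap R' S')).out 0 2).mp
      (inferInstance : IsLocalHom (algebraMap R' S'))
  · rw [← hm]
    exact rTensor_injective_of_map _ M'
  · exact (inferInstance : Module.Flat (IsLocalRing.ResidueField R')
      (IsLocalRing.ResidueField R' ⊗[R'] M'))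

end K63.FlatSquare
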