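import Mathlib.RingTheory.Flat.EquationalCriterion
import Mathlib.Algebra.MvPolynomial.Cardinal
import Mathlib.RingTheory.Adjoin.Polynomial.Basic
import Mathlib.SetTheory.Cardinal.Arithmetic
import Mathlib.Data.List.OfFn
import Mathlib.Algebra.Algebra.Subalgebra.Directed

/-!
# Small flat subalgebras of a flat algebra
-/

set_option autoImplicit false
universe u v w

namespace K63.FlatSub

open Cardinal

variable {A B : Type u} [CommRing A] [CommRing B] [Algebra A B]

theorem mk_adjoin_le (s : Set B) : #(Algebra.adjoin A s) ≤ max #A (max #s ℵ₀) := by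
  rw [Algebra.adjoin_eq_range]
  have h1 : #(MvPolynomial.aeval (R := A) ((↑) : s → B)).range ≤ #(MvPolynomial s A) :=
    mk_le_of_surjective (f := (MvPolynomial.aeval (R := A) ((↑) : s → B)).rangeRestrict)
      (AlgHom.rangeRestrict_surjective _)
  refine h1.trans (MvPolynomial.cardinalMk_le_max.trans ?_)
  exact (max_assoc _ _ _).le

section step

variable [Module.Flat A B]

open Classical in
/-- The elements of a chosen trivialization of a relation. -/
noncomputable def out (n : ℕ) (v : Fin n → A × B) (j : ℕ) : B :=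
  if h : ∑ i, (v i).1 • (v i).2 = 0 then
    let t := Module.Flat.isTrivialRelation_of_sum_smul_eq_zero
      (f := fun i => (v i).1) (x := fun i => (v i).2) h
    if hj : j < t.choose then t.choose_spec.choose_spec.choose ⟨j, hj⟩ else 0
  else 0

theorem out_spec (n : ℕ) (v : Fin n → A × B) (h : ∑ i, (v i).1 • (v i).2 = 0) :
    ∃ (k : ℕ) (a : Fin n → Fin k → A), (∀ i, (v i).2 = ∑ j : Fin k, a i j • out n v j) ∧
      ∀ j, ∑ i, (v i).1 * a i j = 0 := by
  classical
  let t := Module.Flat.isTrivialRelation_of_sum_smul_eq_zero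
      (f := fun i => (v i).1) (x := fun i => (v i).2) h
  refine ⟨t.choose, t.choose_spec.choose, ?_, t.choose_spec.choose_spec.choose_spec.2⟩
  intro i
  have h1 := t.choose_spec.choose_spec.choose_spec.1 i
  refine h1.trans (Finset.sum_congr rfl fun j _ => ?_)
  congr 1
  rw [out, dif_pos h]
  simp only
  rw [dif_pos j.2]

/-- Adjoin the trivializations of all relations in `E`. -/
noncomputable def next (E : Subalgebra A B) : Subalgebra A B :=
  Algebra.adjoin A ((E : Set B) ∪ Set.range
    (fun p : (Σ n, Fin n → A × E) × ℕ => out (A := A) p.1.1 (fun i => ((p.1.2 i).1, ((p.1.2 i).2 : B))) p.2))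

theorem le_next (E : Subalgebra A B) : E ≤ next E := fun _ hx =>
  Algebra.subset_adjoin (Or.inl hx)

theorem out_mem_next (E : Subalgebra A B) (n : ℕ) (v : Fin n → A × E) (j : ℕ) :
    out (A := A) n (fun i => ((v i).1, ((v i).2 : B))) j ∈ next E :=
  Algebra.subset_adjoin (Or.inr ⟨(⟨n, v⟩, j), rfl⟩)

theorem mk_next_le (E : Subalgebra A B) (hE : #E ≤ max #A ℵ₀) : #(next E) ≤ max #A ℵ₀ := by
  set κ := max #A ℵ₀ with hκ
  have hκ0 : ℵ₀ ≤ κ := le_max_right _ _
  refine (mk_adjoin_le _).trans (max_le (le_max_left _ _) (max_le ?_ hκ0))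
  refine (mk_union_le _ _).trans ?_
  refine (add_le_add hE (mk_range_le (α := (Σ n, Fin n → A × E) × ℕ))).trans ?_
  have h1 : #(Σ n, Fin n → A × E) ≤ κ := by
    rw [← mk_congr (List.equivSigmaTuple (α := A × E))]
    refine (mk_list_le_max _).trans (max_le hκ0 ?_)
    rw [mk_prod, lift_id, lift_id]
    exact (mul_le_mul' (le_max_left _ _) hE).trans (mul_eq_self hκ0).le
  have h2 : #((Σ n, Fin n → A × E) × ℕ) ≤ κ := by
    rw [mk_prod, lift_uzero, mk_nat, lift_aleph0]
    exact (mul_le_mul' h1 hκ0).trans (mul_eq_self hκ0).le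
  exact (add_le_add le_rfl h2).trans (add_eq_self hκ0).le

/-- The iterates. -/
noncomputable def iter (E : Subalgebra A B) : ℕ → Subalgebra A B
  | 0 => E
  | n + 1 => next (iter E n)

theorem iter_mono (E : Subalgebra A B) : Monotone (iter E) :=
  monotone_nat_of_le_succ fun n => le_next (iter E n)

theorem mk_iter_le (E : Subalgebra A B) (hE : #E ≤ max #A ℵ₀) (n : ℕ) :
    #(iter E n) ≤ max #A ℵ₀ := by
  induction n with
  | zero => exact hE
  | succ n ih => exact mk_next_le _ ih

theorem out_mem_iter (E : Subalgebra A B) (m n : ℕ) (v : Fin n → A × iter E m) (j : ℕ) :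
    out (A := A) n (fun i => ((v i).1, ((v i).2 : B))) j ∈ iter E (m + 1) :=
  out_mem_next _ n v j

theorem exists_flat_subalgebra (E : Subalgebra A B) (hE : #E ≤ max #A ℵ₀) :
    ∃ B' : Subalgebra A B, E ≤ B' ∧ Module.Flat A B' ∧ #B' ≤ max #A ℵ₀ := by
  have hdir : Directed (· ≤ ·) (iter E) := (iter_mono E).directed_le
  have hmem : ∀ x, x ∈ (⨆ n, iter E n) ↔ ∃ n, x ∈ iter E n := fun x => by
    rw [← SetLike.mem_coe, Subalgebra.coe_iSup_of_directed hdir, Set.mem_iUnion]
    rfl
  refine ⟨⨆ n, iter E n, le_iSup (iter E) 0, ?_, ?_⟩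
  · apply Module.Flat.of_forall_isTrivialRelation
    intro l f x h
    -- all `x i` lie in one stage
    have h1 : ∃ n, ∀ i, (x i : B) ∈ iter E n := by
      choose N hN using fun i => (hmem (x i)).mp (x i).2
      refine ⟨Finset.univ.sup N, fun i => iter_mono E (Finset.le_sup (Finset.mem_univ i)) (hN i)⟩
    obtain ⟨n, hn⟩ := h1
    let v : Fin l → A × iter E n := fun i => (f i, ⟨x i, hn i⟩)
    have h2 : ∑ i, f i • (x i : B) = 0 := by
      have := congrArg (Subtype.val) h
      simpa using this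
    obtain ⟨k, a, h3, h4⟩ := out_spec (A := A) l (fun i => ((v i).1, ((v i).2 : B))) h2
    refine ⟨k, a, fun j => ⟨out (A := A) l (fun i => ((v i).1, ((v i).2 : B))) j,
      (hmem _).mpr ⟨n + 1, out_mem_iter E n l v j⟩⟩, ?_, h4⟩
    intro i
    apply Subtype.ext
    refine (h3 i).trans ?_
    simp
  · have h5 : ((⨆ n, iter E n : Subalgebra A B) : Set B) = ⋃ n, (iter E n : Set B) :=
      Subalgebra.coe_iSup_of_directed hdir
    have h6 : #(⨆ n, iter E n : Subalgebra A B) = #(⋃ n, (iter E n : Set B) : Set B) := by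
      rw [← h5]; rfl
    rw [h6]
    have h7 := mk_iUnion_le_lift (fun n => (iter E n : Set B))
    have hκ0 : ℵ₀ ≤ max #A ℵ₀ := le_max_right _ _
    simp only [lift_uzero, mk_nat, lift_aleph0] at h7
    refine h7.trans ?_
    exact (mul_le_mul' hκ0 (ciSup_le' fun n => mk_iter_le E hE n)).trans (mul_eq_self hκ0).le

end step

end K63.FlatSub
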