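import Groth.Prelude.Def_CAlgX
import Mathlib.LinearAlgebra.TensorProduct.RightExactness

/-!
# Domination of maps and universal injectivity of pushouts
-/

set_option autoImplicit false
universe u

namespace K63.Pushout

open scoped TensorProduct

/-- `g` dominates `f` iff the pushout of `f` along `g` is universally injective. -/
theorem dominates_iff (R : Type u) [CommRing R] {M N M' : Type u}
    [AddCommGroup M] [Module R M] [AddCommGroup N] [Module R N] [AddCommGroup M'] [Module R M']
    (f : M →ₗ[R] N) (g : M →ₗ[R] M') :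
    (∀ (Q : Type u) [AddCommGroup Q] [Module R Q], LinearMap.ker (f.rTensor Q) ≤ LinearMap.ker (g.rTensor Q)) ↔
      CAlgX.UniversallyInjective R
        ((LinearMap.range (g.prod (-f))).mkQ ∘ₗ LinearMap.inl R M' N) := by
  let h : M →ₗ[R] M' × N := g.prod (-f)
  -- the image of `h ⊗ Q`
  have key : ∀ (Q : Type u) [AddCommGroup Q] [Module R Q] (x : M ⊗[R] Q),
      h.rTensor Q x = (LinearMap.inl R M' N).rTensor Q (g.rTensor Q x) -
        (LinearMap.inr R M' N).rTensor Q (f.rTensor Q x) := by
    intro Q _ _ x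
    rw [← LinearMap.comp_apply, ← LinearMap.comp_apply, ← LinearMap.rTensor_comp,
      ← LinearMap.rTensor_comp, ← LinearMap.sub_apply, ← LinearMap.rTensor_sub]
    congr 2
    ext m <;> simp [h]
  have hex : ∀ (Q : Type u) [AddCommGroup Q] [Module R Q],
      Function.Exact (h.rTensor Q) ((LinearMap.range h).mkQ.rTensor Q) := fun Q _ _ =>
    rTensor_exact Q (LinearMap.exact_map_mkQ_range h) (Submodule.mkQ_surjective _)
  have hfst : ∀ (Q : Type u) [AddCommGroup Q] [Module R Q] (a : M' ⊗[R] Q) (b : N ⊗[R] Q),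
      (LinearMap.fst R M' N).rTensor Q ((LinearMap.inl R M' N).rTensor Q a -
        (LinearMap.inr R M' N).rTensor Q b) = a := by
    intro Q _ _ a b
    rw [map_sub, ← LinearMap.comp_apply, ← LinearMap.comp_apply, ← LinearMap.rTensor_comp,
      ← LinearMap.rTensor_comp]
    simp
  have hsnd : ∀ (Q : Type u) [AddCommGroup Q] [Module R Q] (a : M' ⊗[R] Q) (b : N ⊗[R] Q),
      (LinearMap.snd R M' N).rTensor Q ((LinearMap.inl R M' N).rTensor Q a -
        (LinearMap.inr R M' N).rTensor Q b) = - b := by
    intro Q _ _ a b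
    rw [map_sub, ← LinearMap.comp_apply, ← LinearMap.comp_apply, ← LinearMap.rTensor_comp,
      ← LinearMap.rTensor_comp]
    simp
  constructor
  · intro hdom Q _ _
    rw [injective_iff_map_eq_zero]
    intro y hy
    rw [LinearMap.rTensor_comp, LinearMap.comp_apply] at hy
    obtain ⟨x, hx⟩ := (hex Q _).mp hy
    rw [key] at hx
    have h1 := congrArg ((LinearMap.fst R M' N).rTensor Q) hx
    have h2 := congrArg ((LinearMap.snd R M' N).rTensor Q) hx
    rw [hfst] at h1
    rw [hsnd] at h2
    have h3 : (LinearMap.fst R M' N).rTensor Q ((LinearMap.inl R M' N).rTensor Q y) = y := by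
      have := hfst Q y 0
      rwa [map_zero, sub_zero] at this
    have h4 : (LinearMap.snd R M' N).rTensor Q ((LinearMap.inl R M' N).rTensor Q y) = 0 := by
      have := hsnd Q y 0
      rwa [map_zero, sub_zero, neg_zero] at this
    rw [h3] at h1
    rw [h4, neg_eq_zero] at h2
    rw [← h1]
    exact hdom Q h2
  · intro hinj Q _ _ x hx
    rw [LinearMap.mem_ker] at hx ⊢
    apply hinj Q
    rw [map_zero, LinearMap.rTensor_comp, LinearMap.comp_apply]
    have h1 := key Q x
    rw [hx, map_zero, sub_zero] at h1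
    rw [← h1]
    exact (hex Q _).mpr ⟨x, rfl⟩

end K63.Pushout
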