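import Groth.Agent.CAlg.K63.TorsionFree
import Mathlib.LinearAlgebra.FreeModule.Finite.Matrix
import Mathlib.RingTheory.Flat.Basic
import Mathlib.Algebra.Module.FinitePresentation

/-!
# Reflexive modules over Noetherian domains

* `isReflexive_pi`: finite products of reflexive modules.
* `isReflexive_iff_exists_injective`: reflexive iff kernel of a map from a free module to a torsion
  free module.
* `isReflexive_baseChange`, `isReflexive_linearMap`.
-/

set_option autoImplicit false
universe u v v' w

namespace K63.Reflexive

open Module K63.TorsionFree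

open scoped TensorProduct

/-- Finite powers of a reflexive module are reflexive. -/
theorem isReflexive_pi {R : Type u} [CommRing R] (N : Type v) [AddCommGroup N] [Module R N]
    [Module.IsReflexive R N] (n : ℕ) : Module.IsReflexive R (Fin n → N) := by
  classical
  constructor
  constructor
  · rw [injective_iff_map_eq_zero]
    intro x hx
    funext i
    apply (Module.bijective_dual_eval R N).1
    rw [Pi.zero_apply, map_zero]
    apply LinearMap.ext
    intro φ
    exact LinearMap.congr_fun hx (φ ∘ₗ LinearMap.proj i)
  · intro y
    have h : ∀ i, ∃ x : N, Module.Dual.eval R N x =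
        (LinearMap.proj (R := R) (φ := fun _ : Fin n => N) i).dualMap.dualMap y :=
      fun i => (Module.bijective_dual_eval R N).2 _
    choose x hx using h
    refine ⟨x, ?_⟩
    apply LinearMap.ext
    intro φ
    have h1 : φ = ∑ i, (φ ∘ₗ LinearMap.single R (fun _ : Fin n => N) i) ∘ₗ LinearMap.proj i := by
      apply LinearMap.pi_ext
      intro i m
      rw [LinearMap.sum_apply, Finset.sum_eq_single i]
      · simp
      · intro j _ hj
        simp [hj]
      · simp
    have h2 : Module.Dual.eval R (Fin n → N) x φ =
        ∑ i, Module.Dual.eval R N (x i) (φ ∘ₗ LinearMap.single R (fun _ : Fin n => N) i) := by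
      conv_lhs => rw [h1]
      rw [Module.Dual.eval_apply, LinearMap.sum_apply]
      rfl
    rw [h2]
    conv_rhs => rw [h1, map_sum]
    refine Finset.sum_congr rfl fun i _ => ?_
    rw [hx]
    rfl

variable {R : Type u} [CommRing R] [IsDomain R]

theorem isTorsionFree_quotient_range {M : Type v} {M' : Type v'} {M'' : Type w} [AddCommGroup M]
    [Module R M] [AddCommGroup M'] [Module R M'] [AddCommGroup M''] [Module R M'']
    (f : M →ₗ[R] M') (g : M' →ₗ[R] M'') (hfg : Function.Exact f g) [Module.IsTorsionFree R M''] :
    Module.IsTorsionFree R (M' ⧸ LinearMap.range f) := by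
  refine isTorsionFree_of fun c x hc h => ?_
  obtain ⟨x, rfl⟩ := Submodule.Quotient.mk_surjective _ x
  rw [← Submodule.Quotient.mk_smul, Submodule.Quotient.mk_eq_zero] at h
  rw [Submodule.Quotient.mk_eq_zero]
  obtain ⟨m, hm⟩ := h
  have h1 : g x = 0 := by
    apply smul_eq_zero_of hc
    rw [← map_smul, ← hm]
    exact hfg.apply_apply_eq_zero m
  exact (hfg x).mp h1

theorem isReflexive_iff_exists_injective [IsNoetherianRing R] (M : Type v) [AddCommGroup M]
    [Module R M] [Module.Finite R M] :
    Module.IsReflexive R M ↔ ∃ (n : ℕ) (f : M →ₗ[R] (Fin n → R)), Function.Injective f ∧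
      Module.IsTorsionFree R ((Fin n → R) ⧸ LinearMap.range f) := by
  constructor
  · intro h
    have hfin : Module.Finite R (Module.Dual R M) := inferInstance
    obtain ⟨n, p, hp⟩ := Module.Finite.exists_fin' R (Module.Dual R M)
    have hk : Module.Finite R (LinearMap.ker p) := inferInstance
    obtain ⟨m, q, hq⟩ := Module.Finite.exists_fin' R (LinearMap.ker p)
    let e : Module.Dual R (Fin n → R) ≃ₗ[R] (Fin n → R) := (Pi.basisFun R (Fin n)).toDualEquiv.symm
    let f : M →ₗ[R] (Fin n → R) := e.toLinearMap ∘ₗ p.dualMap ∘ₗ Module.Dual.eval R M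
    let g : (Fin n → R) →ₗ[R] Module.Dual R (Fin m → R) :=
      ((LinearMap.ker p).subtype ∘ₗ q).dualMap ∘ₗ e.symm.toLinearMap
    have hf : Function.Injective f :=
      e.injective.comp ((LinearMap.dualMap_injective_of_surjective hp).comp
        (Module.bijective_dual_eval R M).1)
    have hfg : Function.Exact f g := by
      intro y
      constructor
      · intro hy
        have h1 : ∀ z ∈ LinearMap.ker p, (e.symm y) z = 0 := by
          intro z hz
          obtain ⟨w, hw⟩ := hq ⟨z, hz⟩
          have h2 := LinearMap.congr_fun hy w
          have h3 : (e.symm y) ((LinearMap.ker p).subtype (q w)) = 0 := h2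
          rw [hw] at h3
          exact h3
        -- `e.symm y` factors through `p`
        let φ : Module.Dual R (Module.Dual R M) :=
          ((LinearMap.ker p).liftQ (e.symm y) h1) ∘ₗ (p.quotKerEquivOfSurjective hp).symm.toLinearMap
        have hφ : p.dualMap φ = e.symm y := by
          apply LinearMap.ext
          intro z
          change ((LinearMap.ker p).liftQ (e.symm y) h1) ((p.quotKerEquivOfSurjective hp).symm (p z)) = _
          rw [show (p.quotKerEquivOfSurjective hp).symm (p z) = Submodule.Quotient.mk z by
            rw [LinearEquiv.symm_apply_eq]; rfl]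
          rfl
        obtain ⟨x, hx⟩ := (Module.bijective_dual_eval R M).2 φ
        refine ⟨x, ?_⟩
        change e (p.dualMap (Module.Dual.eval R M x)) = y
        rw [hx, hφ, LinearEquiv.apply_symm_apply]
      · rintro ⟨x, rfl⟩
        change ((LinearMap.ker p).subtype ∘ₗ q).dualMap (e.symm (e (p.dualMap (Module.Dual.eval R M x)))) = 0
        rw [LinearEquiv.symm_apply_apply]
        apply LinearMap.ext
        intro z
        change (p ((LinearMap.ker p).subtype (q z))) x = 0
        have : p ((LinearMap.ker p).subtype (q z)) = 0 := (q z).2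
        rw [this]
        rfl
    have : Module.IsTorsionFree R (Module.Dual R (Fin m → R)) := dual_isTorsionFree _
    exact ⟨n, f, hf, isTorsionFree_quotient_range (M := M) f g hfg⟩
  · rintro ⟨n, f, hf, hq⟩
    exact isReflexive_of_exact f (LinearMap.range f).mkQ hf
      (LinearMap.exact_map_mkQ_range f)

/-- Flat base change of reflexive modules. -/
theorem isReflexive_baseChange [IsNoetherianRing R] (R' : Type w) [CommRing R'] [IsDomain R']
    [Algebra R R'] [Module.Flat R R'] (M : Type v) [AddCommGroup M] [Module R M]
    [Module.Finite R M] [Module.IsReflexive R M] : Module.IsReflexive R' (R' ⊗[R] M) := by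
  obtain ⟨n, f, hf, hq⟩ := (isReflexive_iff_exists_injective (R := R) M).mp inferInstance
  have h1 : Function.Injective (f.baseChange R') :=
    Module.Flat.lTensor_preserves_injective_linearMap _ hf
  have h2 : Function.Exact (f.baseChange R') ((LinearMap.range f).mkQ.baseChange R') :=
    Module.Flat.lTensor_exact R' (LinearMap.exact_map_mkQ_range f)
  have h3 : Module.IsTorsionFree R' (R' ⊗[R] ((Fin n → R) ⧸ LinearMap.range f)) :=
    isTorsionFree_baseChange R' _
  have h4 : Module.IsReflexive R' (R' ⊗[R] (Fin n → R)) := inferInstance
  have h5 : Module.Finite R' (R' ⊗[R] M) := inferInstance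

  exact isReflexive_of_exact (f.baseChange R') ((LinearMap.range f).mkQ.baseChange R') h1 h2

end K63.Reflexive
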