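import Mathlib.RingTheory.LocalRing.ResidueField.Ideal
import Mathlib.RingTheory.AdjoinRoot
import Mathlib.FieldTheory.Minpoly.IsIntegrallyClosed
import Mathlib.RingTheory.Polynomial.ScaleRoots
import Mathlib.Algebra.Polynomial.Lifts
import Mathlib.LinearAlgebra.FreeModule.Finite.Basic
import Mathlib.RingTheory.Localization.Integer
import Mathlib.LinearAlgebra.FiniteDimensional.Basic

/-!
# Finite free extensions with prescribed residue field
-/

set_option autoImplicit false
universe u

namespace K63.ResExt

open Polynomial

section poly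

variable {R : Type u} [CommRing R] (p : Ideal R) [p.IsPrime]

/-- Every element of the residue field has a denominator. -/
theorem exists_denom (x : p.ResidueField) : ∃ t : R, t ∉ p ∧
    ∃ r : R, algebraMap R p.ResidueField r = algebraMap R p.ResidueField t * x := by
  obtain ⟨a, b, hb, rfl⟩ := IsFractionRing.div_surjective (A := R ⧸ p) x
  obtain ⟨a, rfl⟩ := Ideal.Quotient.mk_surjective a
  obtain ⟨b, rfl⟩ := Ideal.Quotient.mk_surjective b
  have hb' : b ∉ p := by
    intro h
    rw [Ideal.Quotient.eq_zero_iff_mem.mpr h] at hb
    exact (nonZeroDivisors.ne_zero hb) rfl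
  refine ⟨b, hb', a, ?_⟩
  rw [Ideal.algebraMap_quotient_residueField_mk, Ideal.algebraMap_quotient_residueField_mk]
  rw [mul_div_cancel₀]
  rwa [Ne, Ideal.algebraMap_residueField_eq_zero]

/-- A common denominator. -/
theorem exists_common_denom (s : Finset p.ResidueField) : ∃ t : R, t ∉ p ∧
    ∀ x ∈ s, ∃ r : R, algebraMap R p.ResidueField r = algebraMap R p.ResidueField t * x := by
  classical
  induction s using Finset.induction_on with
  | empty => exact ⟨1, fun h => (inferInstance : p.IsPrime).ne_top ((Ideal.eq_top_iff_one p).mpr h),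
      by simp⟩
  | insert a s ha ih =>
    obtain ⟨t, ht, h⟩ := ih
    obtain ⟨t', ht', r', hr'⟩ := exists_denom p a
    refine ⟨t * t', fun h => ?_, ?_⟩
    · rcases (inferInstance : p.IsPrime).mem_or_mem h with h | h
      · exact ht h
      · exact ht' h
    · intro x hx
      rcases Finset.mem_insert.mp hx with rfl | hx
      · exact ⟨t * r', by rw [map_mul, map_mul, hr', mul_assoc]⟩
      · obtain ⟨r, hr⟩ := h x hx
        exact ⟨t' * r, by rw [map_mul, map_mul, hr]; ring⟩

/-- After rescaling, the minimal polynomial of an algebraic element lifts to a monic polynomial. -/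
theorem exists_monic_lift {L : Type u} [Field L] [Algebra p.ResidueField L] (α : L)
    (hα : IsIntegral p.ResidueField α) : ∃ (t : p.ResidueField) (P : R[X]), t ≠ 0 ∧ P.Monic ∧
      P.map (algebraMap R p.ResidueField) = minpoly p.ResidueField (t • α) := by
  classical
  let m := minpoly p.ResidueField α
  obtain ⟨t, ht, h⟩ := exists_common_denom p ((Finset.range (m.natDegree + 1)).image m.coeff)
  have ht0 : algebraMap R p.ResidueField t ≠ 0 := by
    rwa [Ne, Ideal.algebraMap_residueField_eq_zero]
  have h1 : minpoly p.ResidueField (algebraMap R p.ResidueField t • α) =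
      m.scaleRoots (algebraMap R p.ResidueField t) := IsIntegrallyClosed.minpoly_smul ht0 hα
  have h2 : m.scaleRoots (algebraMap R p.ResidueField t) ∈ lifts (algebraMap R p.ResidueField) := by
    rw [lifts_iff_coeff_lifts]
    intro i
    rw [coeff_scaleRoots]
    rcases lt_trichotomy i m.natDegree with hi | hi | hi
    · obtain ⟨r, hr⟩ := h (m.coeff i) (Finset.mem_image.mpr ⟨i, Finset.mem_range.mpr (by omega), rfl⟩)
      obtain ⟨k, hk⟩ : ∃ k, m.natDegree - i = k + 1 := ⟨m.natDegree - i - 1, by omega⟩
      refine ⟨r * t ^ k, ?_⟩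
      rw [map_mul, hr, map_pow, hk, pow_succ]
      ring
    · subst hi
      refine ⟨1, ?_⟩
      have : m.coeff m.natDegree = 1 := minpoly.monic hα
      rw [this]
      simp
    · refine ⟨0, ?_⟩
      rw [coeff_eq_zero_of_natDegree_lt hi]
      simp
  have h3 : (m.scaleRoots (algebraMap R p.ResidueField t)).Monic :=
    (monic_scaleRoots_iff _).mpr (minpoly.monic hα)
  obtain ⟨P, hP, -, hPm⟩ := lifts_and_natDegree_eq_and_monic h2 h3
  exact ⟨_, P, ht0, hPm, by rw [hP, h1]⟩

/-- The kernel of evaluation at an element whose minimal polynomial lifts to a monic polynomial. -/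
theorem ker_lift {L : Type u} [Field L] [Algebra p.ResidueField L] [Algebra R L]
    [IsScalarTower R p.ResidueField L] (β : L) (P : R[X]) (hP : P.Monic)
    (hPβ : P.map (algebraMap R p.ResidueField) = minpoly p.ResidueField β)
    (ψ : AdjoinRoot P →ₐ[R] L) (hψ : ψ (AdjoinRoot.root P) = β) :
    RingHom.ker ψ.toRingHom = p.map (algebraMap R (AdjoinRoot P)) := by
  apply le_antisymm
  · intro x hx
    obtain ⟨g, rfl⟩ := AdjoinRoot.mk_surjective x
    have hx' : ψ (AdjoinRoot.mk P g) = 0 := hx
    rw [← AdjoinRoot.aeval_eq, ← aeval_algHom_apply, hψ] at hx'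
    have h1 : aeval β (g.map (algebraMap R p.ResidueField)) = 0 := by
      rw [aeval_map_algebraMap]; exact hx'
    have h2 := minpoly.dvd _ _ h1
    rw [← hPβ] at h2
    have h3 : ∀ f : R[X], f.map (algebraMap R p.ResidueField) =
        (f.map (Ideal.Quotient.mk p)).map (algebraMap (R ⧸ p) p.ResidueField) := by
      intro f
      rw [Polynomial.map_map]
      rfl
    rw [h3, h3, Polynomial.map_dvd_map _ (Ideal.injective_algebraMap_quotient_residueField p)
      (hP.map _)] at h2
    obtain ⟨h, hh⟩ := h2
    obtain ⟨h, rfl⟩ := Polynomial.map_surjective _ Ideal.Quotient.mk_surjective h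
    have h4 : g - P * h ∈ p.map (C : R →+* R[X]) := by
      have h7 := Polynomial.ker_mapRingHom (Ideal.Quotient.mk p)
      rw [Ideal.mk_ker] at h7
      rw [← h7, RingHom.mem_ker, Polynomial.coe_mapRingHom,
        Polynomial.map_sub, Polynomial.map_mul, hh, sub_self]
    have h5 : AdjoinRoot.mk P g = AdjoinRoot.mk P (g - P * h) := by
      rw [map_sub, map_mul, AdjoinRoot.mk_self, zero_mul, sub_zero]
    rw [h5]
    have h6 : (p.map (C : R →+* R[X])).map (AdjoinRoot.mk P) ≤ p.map (algebraMap R (AdjoinRoot P)) := by
      rw [Ideal.map_map]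
      exact le_rfl
    exact h6 (Ideal.mem_map_of_mem _ h4)
  · rw [Ideal.map_le_iff_le_comap]
    intro r hr
    rw [Ideal.mem_comap, RingHom.mem_ker]
    change ψ (algebraMap R _ r) = 0
    rw [AlgHom.commutes, IsScalarTower.algebraMap_apply R p.ResidueField L,
      Ideal.algebraMap_residueField_eq_zero.mpr hr, map_zero]

end poly

/-- The existence statement. -/
def Ex (R : Type u) [CommRing R] (p : Ideal R) (L : Type u) [Field L] [Algebra R L] : Prop :=
  ∃ (S : Type u) (_ : CommRing S) (_ : Algebra R S) (_ : Module.Finite R S) (_ : Module.Free R S)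
      (_ : (p.map (algebraMap R S)).IsPrime)
      (e : (p.map (algebraMap R S)).ResidueField ≃+* L),
      ∀ r : R, e (algebraMap R (p.map (algebraMap R S)).ResidueField r) = algebraMap R L r

theorem ex_of_bijective (R : Type u) [CommRing R] (p : Ideal R) [p.IsPrime]
    (L : Type u) [Field L] [Algebra p.ResidueField L] [Algebra R L]
    [IsScalarTower R p.ResidueField L]
    (h : Function.Bijective (algebraMap p.ResidueField L)) : Ex R p L := by
  have key : ∀ (q : Ideal R) (_ : q = p), ∃ (_ : q.IsPrime) (e : q.ResidueField ≃+* L),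
      ∀ r : R, e (algebraMap R q.ResidueField r) = algebraMap R L r := by
    rintro _ rfl
    refine ⟨inferInstance, RingEquiv.ofBijective _ h, fun r => ?_⟩
    exact (IsScalarTower.algebraMap_apply R _ L r).symm
  obtain ⟨h1, e, he⟩ := key (p.map (algebraMap R R)) (Ideal.map_id p)
  exact ⟨R, inferInstance, inferInstance, inferInstance, inferInstance, h1, e, he⟩

theorem main (n : ℕ) : ∀ (R : Type u) [CommRing R] (p : Ideal R) [p.IsPrime]
    (L : Type u) [Field L] [Algebra p.ResidueField L] [FiniteDimensional p.ResidueField L]
    [Algebra R L] [IsScalarTower R p.ResidueField L],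
    Module.finrank p.ResidueField L ≤ n → Ex R p L := by
  induction n with
  | zero =>
    intro R _ p _ L _ _ _ _ _ h
    have := Module.finrank_pos (R := p.ResidueField) (M := L)
    omega
  | succ n ih =>
    intro R _ p _ L _ _ _ _ _ hn
    by_cases hsurj : Function.Surjective (algebraMap p.ResidueField L)
    · exact ex_of_bijective R p L ⟨(algebraMap p.ResidueField L).injective, hsurj⟩
    have hα' : ∃ α : L, ∀ k : p.ResidueField, algebraMap p.ResidueField L k ≠ α := by
      by_contra hcon
      push Not at hcon
      exact hsurj hcon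
    obtain ⟨α, hα⟩ := hα'
    obtain ⟨t, P, ht, hP, hPβ⟩ := exists_monic_lift p α (IsIntegral.of_finite _ α)
    let β := t • α
    have hPβ' : aeval β P = 0 := by
      rw [← aeval_map_algebraMap p.ResidueField, hPβ]
      exact minpoly.aeval _ _
    let S₁ := AdjoinRoot P
    let ψ : S₁ →ₐ[R] L := AdjoinRoot.liftAlgHom P (Algebra.ofId R L) β hPβ'
    have hψ : ψ (AdjoinRoot.root P) = β := AdjoinRoot.liftAlgHom_root _ _ _ _
    have hker : RingHom.ker ψ.toRingHom = p.map (algebraMap R S₁) := ker_lift p β P hP hPβ ψ hψ
    have hprime : (p.map (algebraMap R S₁)).IsPrime := by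
      rw [← hker]
      exact RingHom.ker_isPrime _
    have hfree : Module.Free R S₁ := Module.Free.of_basis (AdjoinRoot.powerBasis' hP).basis
    have hfin : Module.Finite R S₁ := Module.Finite.of_basis (AdjoinRoot.powerBasis' hP).basis
    let q := p.map (algebraMap R S₁)
    let : Algebra S₁ L := ψ.toRingHom.toAlgebra
    let lf : q.ResidueField →+* L := Ideal.ResidueField.lift q ψ.toRingHom hker.ge (by
      intro x hx
      change IsUnit (ψ x)
      rw [isUnit_iff_ne_zero]
      intro h0
      exact hx (hker.le h0))
    let : Algebra q.ResidueField L := lf.toAlgebra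
    have hlf : ∀ x : S₁, lf (algebraMap S₁ q.ResidueField x) = ψ x := fun x =>
      Ideal.ResidueField.lift_algebraMap _ _ _ _ _
    have hst1 : IsScalarTower S₁ q.ResidueField L :=
      IsScalarTower.of_algebraMap_eq fun x => (hlf x).symm
    have hcomap : p = q.comap (algebraMap R S₁) := by
      ext r
      rw [Ideal.mem_comap]
      change r ∈ p ↔ algebraMap R S₁ r ∈ p.map (algebraMap R S₁)
      rw [← hker, RingHom.mem_ker]
      change r ∈ p ↔ ψ (algebraMap R S₁ r) = 0
      rw [AlgHom.commutes, IsScalarTower.algebraMap_apply R p.ResidueField L,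
        map_eq_zero_iff _ (algebraMap p.ResidueField L).injective, Ideal.algebraMap_residueField_eq_zero]
    let mp : p.ResidueField →+* q.ResidueField := Ideal.ResidueField.map p q (algebraMap R S₁) hcomap
    let : Algebra p.ResidueField q.ResidueField := mp.toAlgebra
    have hst2 : IsScalarTower p.ResidueField q.ResidueField L := by
      apply IsScalarTower.of_algebraMap_eq'
      apply Ideal.ResidueField.ringHom_ext
      ext r
      change algebraMap p.ResidueField L (algebraMap R p.ResidueField r) =
        lf (mp (algebraMap R p.ResidueField r))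
      have h1 : mp (algebraMap R p.ResidueField r) = algebraMap S₁ q.ResidueField (algebraMap R S₁ r) :=
        Ideal.ResidueField.map_algebraMap p q (algebraMap R S₁) hcomap r
      rw [h1, hlf, AlgHom.commutes, ← IsScalarTower.algebraMap_apply R p.ResidueField L]
    have hfd1 : FiniteDimensional q.ResidueField L :=
      Module.Finite.of_restrictScalars_finite p.ResidueField q.ResidueField L
    have hfd2 : FiniteDimensional p.ResidueField q.ResidueField :=
      FiniteDimensional.left p.ResidueField q.ResidueField L
    have hmul := Module.finrank_mul_finrank p.ResidueField q.ResidueField L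
    have hne : Module.finrank p.ResidueField q.ResidueField ≠ 1 := by
      intro h1
      have h2 := Subalgebra.bot_eq_top_of_finrank_eq_one h1
      have h3 : algebraMap S₁ q.ResidueField (AdjoinRoot.root P) ∈
          (⊥ : Subalgebra p.ResidueField q.ResidueField) := by
        rw [h2]; trivial
      rw [Algebra.mem_bot] at h3
      obtain ⟨k, hk⟩ := h3
      have h4 : algebraMap p.ResidueField L k = β := by
        rw [IsScalarTower.algebraMap_apply p.ResidueField q.ResidueField L, hk]
        change lf _ = β
        rw [hlf, hψ]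
      apply hα (t⁻¹ * k)
      rw [map_mul, h4]
      change _ * (t • α) = α
      rw [Algebra.smul_def, ← mul_assoc, ← map_mul, inv_mul_cancel₀ ht, map_one, one_mul]
    have hpos1 := Module.finrank_pos (R := p.ResidueField) (M := q.ResidueField)
    have hpos2 := Module.finrank_pos (R := q.ResidueField) (M := L)
    have hlt : Module.finrank q.ResidueField L ≤ n := by
      have h5 : 2 ≤ Module.finrank p.ResidueField q.ResidueField := by omega
      have h6 : 2 * Module.finrank q.ResidueField L ≤ n + 1 :=
        (Nat.mul_le_mul_right _ h5).trans (hmul.le.trans hn)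
      omega
    obtain ⟨S, _, _, _, _, hSp, e, he⟩ := ih S₁ q L hlt
    let : Algebra R S := ((algebraMap S₁ S).comp (algebraMap R S₁)).toAlgebra
    have : IsScalarTower R S₁ S := IsScalarTower.of_algebraMap_eq' rfl
    have hmap : p.map (algebraMap R S) = q.map (algebraMap S₁ S) := by
      rw [IsScalarTower.algebraMap_eq R S₁ S, ← Ideal.map_map]
    have key : ∀ (I : Ideal S) (_ : I = q.map (algebraMap S₁ S)), ∃ (_ : I.IsPrime)
        (e : I.ResidueField ≃+* L), ∀ r : R, e (algebraMap R I.ResidueField r) = algebraMap R L r := by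
      rintro _ rfl
      refine ⟨hSp, e, fun r => ?_⟩
      have h7 := he (algebraMap R S₁ r)
      rw [IsScalarTower.algebraMap_apply S₁ S _] at h7
      rw [IsScalarTower.algebraMap_apply R S _, IsScalarTower.algebraMap_apply R S₁ S, h7]
      exact ψ.commutes r
    obtain ⟨h8, e', he'⟩ := key _ hmap
    exact ⟨S, inferInstance, inferInstance, Module.Finite.trans S₁ S,
      Module.Free.trans (R := R) (S := S₁) (M := S), h8, e', he'⟩

end K63.ResExt
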